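import Mathlib
import Cfsg.Agent.Lib.OrthDerange.Basic
import Cfsg.Agent.Lib.LinClasses.AltDerange
import Cfsg.Agent.Lib.LinGroup.Order

/-!
Elements of odd prime order preserving no non-degenerate symmetric bilinear form up to a scalar.
-/

set_option autoImplicit false

open scoped Matrix

namespace Cfsg.Agent.Lib.OrthDerange

variable {F : Type*} [Field F]

/-- Transvections. -/
theorem transvection_noSym {ι : Type} [Fintype ι] [DecidableEq ι] (h2 : (2 : F) ≠ 0) {p : ℕ} [Fact p.Prime]
    [CharP F p] {i j : ι} (hij : i ≠ j) :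
    (Matrix.transvection i j (1 : F)) ^ p = 1 ∧ (Matrix.transvection i j (1 : F)).det = 1 ∧
      (∀ z : F, Matrix.transvection i j (1 : F) ≠ z • 1) ∧
      NoSymSimilitude (Matrix.transvection i j (1 : F)) := by
  classical
  have hpp : p.Prime := Fact.out
  have : Nonempty ι := ⟨i⟩
  have hpow : (Matrix.transvection i j (1 : F)) ^ p = 1 := by
    rw [Matrix.transvection, add_pow_char_of_commute p (Commute.one_left _), one_pow,
      pow_eq_zero_of_le hpp.two_le (by
        rw [pow_two, Matrix.single_mul_single_of_ne _ _ _ _ hij.symm]), add_zero]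
  have hroot : ∀ z : F, z ^ p = 1 → z = 1 := fun z hz =>
    frobenius_inj F p (show z ^ p = 1 ^ p by rw [hz, one_pow])
  refine ⟨hpow, Matrix.det_transvection_of_ne i j hij 1, fun z hz => ?_, fun B hsymm hnd c _ hc => ?_⟩
  · have := congrFun (congrFun hz i) j
    simp [Matrix.transvection, hij] at this
  · let e : ι → (ι → F) := fun k => Pi.single k 1
    have hBne : ∃ u v, B u v ≠ 0 := by
      by_contra h
      push Not at h
      have := congrFun (hnd (e i) fun u => h u _) i
      simp [e] at this
    obtain ⟨u₀, v₀, h0⟩ := hBne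
    obtain rfl := LinClasses.multiplier_eq_one hroot hpow h0 hc
    have hxe : ∀ k, Matrix.transvection i j (1 : F) *ᵥ e k = if k = j then e k + e i else e k := fun k => by
      funext l
      simp only [e, Matrix.transvection, Matrix.add_mulVec, Matrix.one_mulVec, Matrix.single_mulVec]
      by_cases hk : k = j <;> by_cases hl : l = i <;>
        simp [hk, hl, hij, hij.symm, Ne.symm, Pi.single_apply, Function.update_apply]
    have hoff : ∀ k, k ≠ j → B (e k) (e i) = 0 := fun k hk => by
      have h := hc (e k) (e j)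
      rw [hxe, hxe, if_neg hk, if_pos rfl, map_add, one_mul] at h
      linear_combination h
    have hjj : B (e j) (e i) = 0 := by
      have h := hc (e j) (e j)
      rw [hxe, if_pos rfl, map_add, map_add, LinearMap.add_apply, LinearMap.add_apply, one_mul,
        hsymm (e i) (e j), hoff i hij] at h
      exact (mul_eq_zero.1 (show (2 : F) * B (e j) (e i) = 0 by linear_combination h)).resolve_left h2
    have := congrFun (hnd (e i) fun u => by
      have hu : u = ∑ k, u k • e k := by simp [e, ← Pi.single_smul', Finset.univ_sum_single]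
      rw [hu, map_sum, LinearMap.sum_apply]
      refine Finset.sum_eq_zero fun k _ => ?_
      rcases eq_or_ne k j with rfl | hk
      · simp [hjj]
      · simp [hoff k hk]) i
    simp [e] at this

/-- A diagonal similitude has symmetric multiplicities. -/
theorem diag_multiplicity {ι : Type} [Fintype ι] [DecidableEq ι] {d : ι → F} (hd : ∀ i, d i ≠ 0)
    {B : LinearMap.BilinForm F (ι → F)} (hnd : ∀ v, (∀ u, B u v = 0) → v = 0) {c : F}
    (hc : ∀ u v, B (Matrix.diagonal d *ᵥ u) (Matrix.diagonal d *ᵥ v) = c * B u v) {y : F} (hy : y ≠ 0) :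
    Nat.card {i // d i = y} = Nat.card {i // d i = c / y} := by
  classical
  let G : Matrix ι ι F := Matrix.of fun i j => B (Pi.single i 1) (Pi.single j 1)
  have hG : G.det ≠ 0 := by
    intro hdet0
    obtain ⟨v, hv0, hv⟩ := Matrix.exists_mulVec_eq_zero_iff.2 hdet0
    refine hv0 (hnd v fun u => ?_)
    have hu : u = ∑ i, u i • (Pi.single i 1 : ι → F) := by simp [← Pi.single_smul', Finset.univ_sum_single]
    rw [hu, map_sum, LinearMap.sum_apply]
    refine Finset.sum_eq_zero fun i _ => ?_
    have hv' : v = ∑ j, v j • (Pi.single j 1 : ι → F) := by simp [← Pi.single_smul', Finset.univ_sum_single]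
    rw [map_smul, LinearMap.smul_apply, hv', map_sum]
    have : ∑ j, B (Pi.single i 1) (Pi.single j 1) * v j = 0 := congrFun hv i
    simp [mul_comm (v _), this]
  obtain ⟨σ, hσ⟩ : ∃ σ : Equiv.Perm ι, ∀ i, G (σ i) i ≠ 0 := by
    by_contra h
    push Not at h
    apply hG
    rw [Matrix.det_apply G]
    refine Finset.sum_eq_zero fun σ _ => ?_
    obtain ⟨i, hi⟩ := h σ
    exact (congrArg _ (Finset.prod_eq_zero (f := fun j => G (σ j) j) (Finset.mem_univ i) hi)).trans (smul_zero _)
  have hpair : ∀ i, d (σ i) * d i = c := by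
    intro i
    have h := hc (Pi.single (σ i) 1) (Pi.single i 1)
    have e : ∀ j, Matrix.diagonal d *ᵥ (Pi.single j 1) = d j • (Pi.single j 1 : ι → F) := fun j => by
      ext k
      rw [Matrix.mulVec_diagonal]
      by_cases hk : k = j
      · simp [hk]
      · simp [Pi.single_apply, hk]
    simp only [e, map_smul, LinearMap.smul_apply, smul_eq_mul] at h
    apply mul_right_cancel₀ (hσ i)
    simp only [G, Matrix.of_apply]
    linear_combination h
  refine Nat.card_congr (Equiv.subtypeEquiv σ fun i => ?_)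
  rw [eq_div_iff hy]
  constructor
  · intro h; rw [← h]; exact hpair i
  · intro h; exact mul_left_cancel₀ (hd (σ i)) (by rw [hpair i, h])

theorem card_fiber_add {m n : ℕ} (d : Fin m → F) (d' : Fin n → F) (y : F) :
    Nat.card {i // Fin.append d d' i = y} = Nat.card {i // d i = y} + Nat.card {i // d' i = y} := by
  classical
  rw [Nat.card_eq_fintype_card, Nat.card_eq_fintype_card, Nat.card_eq_fintype_card, Fintype.card_subtype,
    Fintype.card_subtype, Fintype.card_subtype, Finset.card_filter, Finset.card_filter, Finset.card_filter,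
    Fin.sum_univ_add]
  simp

theorem card_fiber_const (n : ℕ) (a y : F) [Decidable (a = y)] :
    Nat.card {_i : Fin n // a = y} = if a = y then n else 0 := by
  split_ifs with h
  · simp [h]
  · simp [h]

/-- No rule `y ↦ c / y` preserves the multiplicities of `d`. -/
def NoPair {ι : Type} (d : ι → F) : Prop :=
  ∀ c : F, c ≠ 0 → ¬ ∀ y : F, y ≠ 0 → Nat.card {i // d i = y} = Nat.card {i // d i = c / y}

theorem NoPair.noSym {ι : Type} [Fintype ι] [DecidableEq ι] {d : ι → F} (hp : NoPair d) (hd : ∀ i, d i ≠ 0) :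
    NoSymSimilitude (Matrix.diagonal d) :=
  fun _ _ hnd c hc0 hc => hp c hc0 fun _ hy => diag_multiplicity hd hnd hc hy

/-- Two eigenvalues with different multiplicities. -/
theorem diag_two_noPair {k l : ℕ} (hk : 0 < k) (hl : 0 < l) (hkl : k ≠ l) {u v : F} (hu : u ≠ 0) (hv : v ≠ 0)
    (h2 : u * u ≠ v * v) :
    NoPair (Fin.append (fun _ : Fin k => u) (fun _ : Fin l => v)) := by
  classical
  intro c hc0 hc
  have huv : u ≠ v := fun h => h2 (by rw [h])
  have key : ∀ y, y ≠ 0 → ((if u = y then k else 0) + (if v = y then l else 0)) =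
      ((if u = c / y then k else 0) + (if v = c / y then l else 0)) := fun y hy => by
    have h := hc y hy
    rwa [card_fiber_add, card_fiber_add, card_fiber_const, card_fiber_const, card_fiber_const,
      card_fiber_const] at h
  have h1 := key u hu
  have h3 := key v hv
  simp only [if_true, if_neg huv, if_neg huv.symm, add_zero, zero_add] at h1 h3
  have e1 : u = c / u := by
    by_contra hne
    rw [if_neg hne] at h1
    split_ifs at h1 <;> omega
  have e2 : v = c / v := by
    by_contra hne
    rw [if_neg hne] at h3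
    split_ifs at h3 <;> omega
  rw [eq_div_iff hu] at e1
  rw [eq_div_iff hv] at e2
  exact h2 (e1.trans e2.symm)

/-- Two eigenvalues with different multiplicities. -/
theorem diag_two_noSym {k l : ℕ} (hk : 0 < k) (hl : 0 < l) (hkl : k ≠ l) {u v : F} (hu : u ≠ 0) (hv : v ≠ 0)
    (h2 : u * u ≠ v * v) :
    NoSymSimilitude (Matrix.diagonal (Fin.append (fun _ : Fin k => u) (fun _ : Fin l => v))) :=
  (diag_two_noPair hk hl hkl hu hv h2).noSym
    fun i => Fin.addCases (fun i => by simp [hu]) (fun i => by simp [hv]) i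

/-- Three eigenvalues `ω`, `ω⁻²`, `1` with multiplicities `2`, `1`, `m`. -/
theorem diag_three_noPair {r : ℕ} [Fact r.Prime] (hr : 5 ≤ r) {ω : F} (hω : IsPrimitiveRoot ω r) {m : ℕ}
    (hm : 0 < m) (hgap : ¬ (m = 2 ∧ r = 5)) :
    NoPair (Fin.append (Fin.append (fun _ : Fin 2 => ω) (fun _ : Fin 1 => ω ^ (r - 2))) (fun _ : Fin m => 1)) := by
  classical
  intro c hc0 hc
  set a := ω ^ (r - 2) with ha
  have hω0 : ω ≠ 0 := hω.ne_zero (by omega)
  have h1 : ω ≠ 1 := hω.ne_one (by omega)
  have hpow : ∀ k, 0 < k → k < r → ω ^ k ≠ 1 := fun k hk hkr => hω.pow_ne_one_of_pos_of_lt hk.ne' hkr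
  have hωa : ω ^ 2 * a = 1 := by rw [ha, ← pow_add, show 2 + (r - 2) = r by omega, hω.pow_eq_one]
  have ha0 : a ≠ 0 := pow_ne_zero _ hω0
  have ha1 : a ≠ 1 := hpow _ (by omega) (by omega)
  have haω : a ≠ ω := fun h => hpow 3 (by omega) (by omega) (by rw [pow_succ, ← hωa, h])
  have key : ∀ y, y ≠ 0 → ((if ω = y then 2 else 0) + (if a = y then 1 else 0) + (if 1 = y then m else 0)) =
      ((if ω = c / y then 2 else 0) + (if a = c / y then 1 else 0) + (if 1 = c / y then m else 0)) := fun y hy => by
    have h := hc y hy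
    rwa [card_fiber_add, card_fiber_add, card_fiber_add, card_fiber_add, card_fiber_const, card_fiber_const,
      card_fiber_const, card_fiber_const, card_fiber_const, card_fiber_const] at h
  have k1 := key ω hω0
  have k2 := key a ha0
  simp only [if_true, if_neg haω, if_neg haω.symm, if_neg ha1, if_neg ha1.symm, if_neg h1, if_neg h1.symm,
    add_zero, zero_add] at k1 k2
  have c1 : (ω = c / ω) ∨ (1 = c / ω ∧ m = 2) := by
    by_cases e : ω = c / ω
    · exact Or.inl e
    · rw [if_neg e] at k1
      by_cases e2 : 1 = c / ω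
      · refine Or.inr ⟨e2, ?_⟩
        rw [if_pos e2, if_neg (fun h => ha1 (h.trans e2.symm))] at k1
        omega
      · rw [if_neg e2] at k1
        split_ifs at k1 <;> omega
  have c2 : (a = c / a) ∨ (1 = c / a ∧ m = 1) := by
    by_cases e : a = c / a
    · exact Or.inl e
    · rw [if_neg e] at k2
      by_cases e2 : 1 = c / a
      · refine Or.inr ⟨e2, ?_⟩
        rw [if_pos e2] at k2
        split_ifs at k2 <;> omega
      · rw [if_neg e2] at k2
        split_ifs at k2 <;> omega
  rw [eq_div_iff hω0, eq_div_iff hω0] at c1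
  rw [eq_div_iff ha0, eq_div_iff ha0] at c2
  rcases c1 with h | ⟨h, hm2⟩
  · rcases c2 with h' | ⟨h', -⟩
    · -- `ω² = a²`, so `ω⁶ = 1`
      have h6 : ω ^ 6 = 1 := by
        calc ω ^ 6 = (ω ^ 2) ^ 2 * (ω * ω) := by ring
          _ = (ω ^ 2) ^ 2 * (a * a) := by rw [h, h']
          _ = (ω ^ 2 * a) ^ 2 := by ring
          _ = 1 := by rw [hωa, one_pow]
      have h3 := (hω.pow_eq_one_iff_dvd 6).1 h6
      have hle := Nat.le_of_dvd (by norm_num) h3
      interval_cases r
      · norm_num at h3
      · exact absurd (Fact.out : (6 : ℕ).Prime) (by norm_num)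
    · have h4 : ω ^ 4 = 1 := by
        calc ω ^ 4 = (ω ^ 2) * (ω * ω) := by ring
          _ = ω ^ 2 * (1 * a) := by rw [h, h']
          _ = 1 := by rw [one_mul, hωa]
      exact hpow 4 (by norm_num) (by omega) h4
  · rcases c2 with h' | ⟨-, h'⟩
    · have h5 : ω ^ 5 = 1 := by
        calc ω ^ 5 = (ω ^ 2) ^ 2 * (1 * ω) := by ring
          _ = (ω ^ 2) ^ 2 * (a * a) := by rw [h, h']
          _ = (ω ^ 2 * a) ^ 2 := by ring
          _ = 1 := by rw [hωa, one_pow]
      have h3 := Nat.le_of_dvd (by norm_num) ((hω.pow_eq_one_iff_dvd 5).1 h5)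
      exact hgap ⟨hm2, by omega⟩
    · omega

/-- Three eigenvalues `ω`, `ω⁻²`, `1` with multiplicities `2`, `1`, `m`. -/
theorem diag_three_noSym {r : ℕ} [Fact r.Prime] (hr : 5 ≤ r) {ω : F} (hω : IsPrimitiveRoot ω r) {m : ℕ}
    (hm : 0 < m) (hgap : ¬ (m = 2 ∧ r = 5)) :
    NoSymSimilitude (Matrix.diagonal
      (Fin.append (Fin.append (fun _ : Fin 2 => ω) (fun _ : Fin 1 => ω ^ (r - 2))) (fun _ : Fin m => 1))) :=
  (diag_three_noPair hr hω hm hgap).noSym fun i =>
    Fin.addCases (fun i => Fin.addCases (fun i => by simp [hω.ne_zero (by omega : r ≠ 0)])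
      (fun i => by simp [hω.ne_zero (by omega : r ≠ 0)]) i) (fun i => by simp) i

open Polynomial in
/-- The witness for `r ∣ q ^ d - 1`, `d` odd, `r` prime to `q - 1`. -/
theorem field_noSym [Fintype F] (p : ℕ) [Fact p.Prime] [CharP F p] {r : ℕ} [Fact r.Prime] (hr : r ≠ 2)
    (hroot : ∀ z : F, z ^ r = 1 → z = 1) (n d : ℕ) (hd : Odd d) (hdn : d ≤ n)
    (hrd : r ∣ Fintype.card F ^ d - 1) :
    ∃ x : Matrix (Fin n) (Fin n) F,
      x ^ r = 1 ∧ x.det = 1 ∧ (∀ z : F, x ≠ z • 1) ∧ NoSymSimilitude x := by
  classical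
  have hrp : r.Prime := Fact.out
  have : NeZero d := ⟨by rintro rfl; simp at hd⟩
  let L := FiniteField.Extension F p d
  have : Fintype L := Fintype.ofFinite L
  obtain ⟨w, hw⟩ : ∃ w : Lˣ, orderOf w = r := by
    refine exists_prime_orderOf_dvd_card' r ?_
    rw [Nat.card_units, FiniteField.natCard_extension, Nat.card_eq_fintype_card]
    exact hrd
  set ω : L := (w : L) with hω
  have hωr : ω ^ r = 1 := by rw [hω, ← Units.val_pow_eq_pow_val, ← hw, pow_orderOf_eq_one, Units.val_one]
  have hω1 : ω ≠ 1 := fun h => by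
    rw [Units.val_eq_one.1 h, orderOf_one] at hw
    exact hrp.ne_one hw.symm
  let W := Fin (n - d) → F
  let e : (L × W) ≃ₗ[F] (Fin n → F) :=
    LinearEquiv.ofFinrankEq _ _ (by
      rw [Module.finrank_prod, FiniteField.finrank_extension, Module.finrank_pi, Module.finrank_pi,
        Fintype.card_fin, Fintype.card_fin]
      omega)
  let T : Module.End F (L × W) := (LinearMap.mulLeft F ω).prodMap LinearMap.id
  have hTk : ∀ k : ℕ, ∀ v : L × W, (T ^ k) v = (ω ^ k * v.1, v.2) := by
    intro k
    induction k with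
    | zero => simp
    | succ k ih => intro v; rw [pow_succ, Module.End.mul_apply, ih]; simp [T, pow_succ, mul_assoc]
  set x := LinearMap.toMatrix' (e.conj T) with hx
  have hxv : ∀ v, x *ᵥ e v = e (T v) := fun v => by
    rw [hx, LinearMap.toMatrix'_mulVec, LinearEquiv.conj_apply_apply, e.symm_apply_apply]
  have hxpow : x ^ r = 1 := by
    apply Matrix.toLin'.injective
    refine LinearMap.ext fun v => ?_
    obtain ⟨v, rfl⟩ := e.surjective v
    have hk : ∀ k : ℕ, (x ^ k) *ᵥ e v = e ((T ^ k) v) := by
      intro k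
      induction k with
      | zero => simp
      | succ k ih =>
        rw [pow_succ', ← Matrix.mulVec_mulVec, ih, hxv, pow_succ' T, Module.End.mul_apply]
    rw [Matrix.toLin'_apply, hk r, hTk r v, hωr, one_mul, Matrix.toLin'_one, LinearMap.id_apply]
  have hdet : x.det = 1 := hroot _ (by rw [← Matrix.det_pow, hxpow, Matrix.det_one])
  refine ⟨x, hxpow, hdet, fun z hz => ?_, fun B hsymm hnd c _ hc => ?_⟩
  · have hid : ∀ v : L × W, T v = z • v := fun v => e.injective (by
      rw [← hxv, hz, map_smul, Matrix.smul_mulVec, Matrix.one_mulVec])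
    have h1 := congrArg Prod.fst (hid (1, 0))
    simp only [T, LinearMap.prodMap_apply, LinearMap.mulLeft_apply, mul_one, Prod.smul_fst] at h1
    rw [← Algebra.algebraMap_eq_smul_one] at h1
    have hz1 : z = 1 := hroot z ((algebraMap F L).injective (by rw [map_pow, ← h1, hωr, map_one]))
    rw [hz1, map_one] at h1
    exact hω1 h1
  · let B' : LinearMap.BilinForm F (L × W) := B.compl₁₂ e.toLinearMap e.toLinearMap
    obtain ⟨u₀, v₀, h0⟩ : ∃ u v, B u v ≠ 0 := by
      by_contra h
      push Not at h
      have := hnd (e (1, 0)) fun u => h u _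
      simp at this
    have hc1 : c = 1 := LinClasses.multiplier_eq_one hroot (x := x) hxpow h0 hc
    subst hc1
    have hTS : ∀ u v, B' (T u) v = B' u ((T ^ (r - 1)) v) := by
      intro u v
      have h : B (x *ᵥ e u) (x *ᵥ e ((T ^ (r - 1)) v)) = 1 * B (e u) (e ((T ^ (r - 1)) v)) := hc _ _
      rw [hxv, hxv, one_mul, ← Module.End.mul_apply, ← pow_succ', Nat.sub_add_cancel hrp.one_le, hTk r v,
        hωr, one_mul] at h
      exact h
    let m := minpoly F ω * (X - 1)
    have haev : ∀ (k : ℕ) (P : F[X]) (v : L × W),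
        aeval (T ^ k) P v = (aeval (ω ^ k) P * v.1, P.eval 1 • v.2) := by
      intro k P
      induction P using Polynomial.induction_on' with
      | add P Q hP hQ => intro v; simp [map_add, hP, hQ, add_mul, add_smul]
      | monomial i a =>
        intro v
        simp [aeval_monomial, ← pow_mul, hTk, Algebra.smul_def, mul_assoc]
    have hmT : aeval T m = 0 := by
      refine LinearMap.ext fun v => ?_
      rw [← pow_one T, haev 1 m v]
      simp [m, minpoly.aeval]
    have hmS : ∀ v, aeval (T ^ (r - 1)) m v = 0 := by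
      intro v
      apply e.map_eq_zero_iff.1
      refine hnd _ fun u => ?_
      obtain ⟨u, rfl⟩ := e.surjective u
      have := LinClasses.aeval_adjoint B' T _ hTS m u v
      rw [hmT] at this
      simpa [B'] using this.symm
    have h1 := congrArg Prod.fst (hmS (1, 0))
    rw [haev] at h1
    simp only [m, map_mul, map_sub, aeval_X, map_one, mul_one, Prod.fst_zero, mul_eq_zero, sub_eq_zero] at h1
    have hne : ω ^ (r - 1) ≠ 1 := fun h => hω1 (by
      have := hωr; rwa [← Nat.sub_add_cancel hrp.one_le, pow_succ, h, one_mul] at this)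
    obtain ⟨σ, hσ⟩ := minpoly.exists_algEquiv_of_root' (Algebra.IsAlgebraic.isAlgebraic ω) (h1.resolve_right hne)
    have hσ2 : ∀ i : ℕ, (σ ^ i) ω = if Even i then ω else ω ^ (r - 1) := by
      intro i
      induction i with
      | zero => simp
      | succ i ih =>
        rw [pow_succ', AlgEquiv.mul_apply, ih]
        by_cases he : Even i
        · rw [if_pos he, if_neg (by simp [Nat.even_add_one, he]), hσ]
        · rw [if_neg he, if_pos (by simp [Nat.even_add_one, he]), map_pow, hσ, ← pow_mul]
          have : (r - 1) * (r - 1) = r * (r - 2) + 1 := by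
            obtain ⟨t, rfl⟩ : ∃ t, r = t + 2 := ⟨r - 2, by have := hrp.two_le; omega⟩
            simp; ring
          rw [this, pow_succ, pow_mul, hωr, one_pow, one_mul]
    have hσd : σ ^ d = 1 := by
      have h := pow_card_eq_one' (x := σ)
      rwa [FiniteField.natCard_algEquiv_extension] at h
    have h := hσ2 d
    rw [hσd, AlgEquiv.one_apply, if_neg (Nat.not_even_iff_odd.2 hd)] at h
    have h3 : ω * ω = 1 := by
      nth_rw 1 [h]
      rw [← pow_succ, Nat.sub_add_cancel hrp.one_le, hωr]
    rcases mul_self_eq_one_iff.1 h3 with h4 | h4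
    · exact hω1 h4
    · have hodd : Odd r := hrp.odd_of_ne_two hr
      rw [h4, hodd.neg_one_pow] at hωr
      rw [hωr] at h4
      exact hω1 h4

/-- A fixed-point-free element of order `r`. -/
theorem exists_fpf [Fintype F] (p : ℕ) [Fact p.Prime] [CharP F p] {r : ℕ} [Fact r.Prime]
    (hroot : ∀ z : F, z ^ r = 1 → z = 1) (n : ℕ) (hn : n ≠ 0) (hrn : r ∣ Fintype.card F ^ n - 1) :
    ∃ x : Matrix (Fin n) (Fin n) F,
      x ^ r = 1 ∧ x.det = 1 ∧ (∀ z : F, x ≠ z • 1) ∧ ∀ v, x *ᵥ v = v → v = 0 := by
  classical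
  have hrp : r.Prime := Fact.out
  have : NeZero n := ⟨hn⟩
  let L := FiniteField.Extension F p n
  have : Fintype L := Fintype.ofFinite L
  obtain ⟨w, hw⟩ : ∃ w : Lˣ, orderOf w = r := by
    refine exists_prime_orderOf_dvd_card' r ?_
    rw [Nat.card_units, FiniteField.natCard_extension, Nat.card_eq_fintype_card]
    exact hrn
  set ω : L := (w : L) with hω
  have hωr : ω ^ r = 1 := by rw [hω, ← Units.val_pow_eq_pow_val, ← hw, pow_orderOf_eq_one, Units.val_one]
  have hω1 : ω ≠ 1 := fun h => by
    rw [Units.val_eq_one.1 h, orderOf_one] at hw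
    exact hrp.ne_one hw.symm
  let e : L ≃ₗ[F] (Fin n → F) :=
    LinearEquiv.ofFinrankEq _ _ (by rw [FiniteField.finrank_extension, Module.finrank_pi, Fintype.card_fin])
  set x := LinearMap.toMatrix' (e.conj (LinearMap.mulLeft F ω)) with hx
  have hxv : ∀ v, x *ᵥ e v = e (ω * v) := fun v => by
    rw [hx, LinearMap.toMatrix'_mulVec, LinearEquiv.conj_apply_apply, e.symm_apply_apply]
    rfl
  have hxpow : x ^ r = 1 := by
    apply Matrix.toLin'.injective
    refine LinearMap.ext fun v => ?_
    obtain ⟨v, rfl⟩ := e.surjective v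
    have hk : ∀ k : ℕ, (x ^ k) *ᵥ e v = e (ω ^ k * v) := by
      intro k
      induction k with
      | zero => simp
      | succ k ih => rw [pow_succ', ← Matrix.mulVec_mulVec, ih, hxv, ← mul_assoc, ← pow_succ']
    rw [Matrix.toLin'_apply, hk r, hωr, one_mul, Matrix.toLin'_one, LinearMap.id_apply]
  have hfix : ∀ v, x *ᵥ v = v → v = 0 := by
    intro v hv
    obtain ⟨v, rfl⟩ := e.surjective v
    rw [hxv, e.injective.eq_iff] at hv
    have : (ω - 1) * v = 0 := by linear_combination hv
    rw [(mul_eq_zero.1 this).resolve_left (sub_ne_zero.2 hω1), map_zero]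
  refine ⟨x, hxpow, hroot _ (by rw [← Matrix.det_pow, hxpow, Matrix.det_one]), fun z hz => ?_, hfix⟩
  have hz1 : z = 1 := by
    have h := congrFun (congrFun hxpow 0) 0
    rw [hz, _root_.smul_pow, one_pow] at h
    exact hroot z (by simpa using h)
  rw [hz1, one_smul] at hz
  have := hfix (e 1) (by rw [hz, Matrix.one_mulVec])
  exact one_ne_zero (e.map_eq_zero_iff.1 this)

end Cfsg.Agent.Lib.OrthDerange
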