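import Mathlib
import Cfsg.Agent.Lib.OrthDerange.Witness

/-!
A diagonal element of order `r` modulo scalars, of determinant one, whose multiplicities admit no pairing
`y ↦ c / y`, with all eigenvalues killed by a given `N` divisible by `r`.
-/

set_option autoImplicit false

namespace Cfsg.Agent.Lib.OrthDerange

variable {F : Type*} [Field F]

theorem exists_diag_noPair [Finite F] {r : ℕ} [Fact r.Prime] (hr2 : r ≠ 2) {n : ℕ} (hn : 3 ≤ n)
    (hgap : ¬ (n = 6 ∧ r = 3)) {N : ℕ} (hN : N ∣ Nat.card Fˣ) (hrN : r ∣ N)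
    (hex : (r = 3 ∨ r = 5) → n = r → r ^ 2 ∣ N) :
    ∃ (d : Fin n → F) (z : F), (∀ i, d i ^ r = z) ∧ ∏ i, d i = 1 ∧ (∀ i, d i ^ N = 1) ∧
      (∀ c : F, ∃ i, d i ≠ c) ∧ NoPair d := by
  classical
  have hrp : r.Prime := Fact.out
  obtain ⟨g, hg⟩ := IsCyclic.exists_ofOrder_eq_natCard (α := Fˣ)
  have hroot : ∀ k, k ∣ N → ∃ w : F, IsPrimitiveRoot w k := fun k hk =>
    ⟨((g ^ (orderOf g / k) : Fˣ) : F), IsPrimitiveRoot.coe_units_iff.2 (by
      have h := orderOf_pow_orderOf_div (x := g) (n := k) (by rw [hg]; exact Nat.card_pos.ne') (by rw [hg]; exact hk.trans hN)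
      exact IsPrimitiveRoot.iff_orderOf.2 h)⟩
  have hkill : ∀ {w : F} {k : ℕ}, k ∣ N → w ^ k = 1 → w ^ N = 1 := fun {w k} hk hw => by
    obtain ⟨t, rfl⟩ := hk
    rw [pow_mul, hw, one_pow]
  have hr3 : 3 ≤ r := by have := hrp.two_le; omega
  by_cases hb1 : (r = 3 ∨ r = 5) ∧ n = r
  · obtain ⟨hr35, rfl⟩ := hb1
    obtain ⟨θ, hθp⟩ := hroot (n ^ 2) (hex hr35 rfl)
    have hθ0 : θ ≠ 0 := hθp.ne_zero (pow_ne_zero _ hrp.ne_zero)
    have hθN : θ ^ N = 1 := hkill (hex hr35 rfl) hθp.pow_eq_one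
    obtain ⟨l, rfl⟩ : ∃ l, n = l + 1 := ⟨n - 1, by omega⟩
    set v : F := θ ^ ((l + 1) * l + 1) with hvdef
    refine ⟨Fin.append (fun _ : Fin l => θ) (fun _ : Fin 1 => v), θ ^ (l + 1), ?_, ?_, ?_, fun c => ?_,
      diag_two_noPair (by omega) Nat.one_pos (by omega) hθ0 (pow_ne_zero _ hθ0) ?_⟩
    · refine fun i => Fin.addCases (fun i => ?_) (fun i => ?_) i
      · rw [Fin.append_left]
      · simp only [Fin.append_right, v]
        rw [← pow_mul, show ((l + 1) * l + 1) * (l + 1) = (l + 1) ^ 2 * l + (l + 1) by ring, pow_add, pow_mul,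
          hθp.pow_eq_one, one_pow, one_mul]
    · rw [Fin.prod_univ_add]
      simp only [Fin.append_left, Fin.append_right, Finset.prod_const, Finset.card_univ, Fintype.card_fin,
        pow_one, v]
      rw [← pow_add, show l + ((l + 1) * l + 1) = (l + 1) ^ 2 by ring, hθp.pow_eq_one]
    · refine fun i => Fin.addCases (fun i => ?_) (fun i => ?_) i
      · rw [Fin.append_left]; exact hθN
      · rw [Fin.append_right, hvdef, ← pow_mul, mul_comm, pow_mul, hθN, one_pow]
    · by_contra hc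
      push Not at hc
      have e0 := hc (Fin.castAdd 1 ⟨0, by omega⟩)
      have e1 := hc (Fin.natAdd l 0)
      rw [Fin.append_left] at e0
      rw [Fin.append_right, ← e0, hvdef] at e1
      have hh : θ ^ ((l + 1) * l + 1) = θ ^ 1 := by rw [pow_one]; exact e1
      have := hθp.pow_inj (show (l + 1) * l + 1 < (l + 1) ^ 2 by nlinarith) (by nlinarith) hh
      have : (l + 1) * l = 0 := by omega
      rcases Nat.mul_eq_zero.1 this with h | h <;> omega
    · intro h
      rw [hvdef, ← pow_add, ← pow_two] at h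
      have h2' : θ ^ (2 * ((l + 1) * l)) = 1 := by
        have : θ ^ (2 * ((l + 1) * l)) * θ ^ 2 = 1 * θ ^ 2 := by
          rw [one_mul, ← pow_add]
          conv_rhs => rw [h]
          congr 1
          ring
        exact mul_right_cancel₀ (pow_ne_zero _ hθ0) this
      have hd := (hθp.pow_eq_one_iff_dvd _).1 h2'
      rw [pow_two, show 2 * ((l + 1) * l) = (l + 1) * (2 * l) by ring] at hd
      have hd' := Nat.dvd_of_mul_dvd_mul_left (Nat.succ_pos _) hd
      rcases hrp.dvd_mul.1 hd' with h | h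
      · exact hr2 ((Nat.prime_dvd_prime_iff_eq hrp Nat.prime_two).1 h)
      · exact absurd (Nat.le_of_dvd (by omega) h) (by omega)
  obtain ⟨ω, hω⟩ := hroot r hrN
  have hω0 : ω ≠ 0 := hω.ne_zero hrp.ne_zero
  have hω1 : ω ≠ 1 := hω.ne_one hrp.one_lt
  have hωN : ω ^ N = 1 := hkill hrN hω.pow_eq_one
  by_cases hr3' : r = 3
  · subst hr3'
    have hn3 : n ≠ 3 := fun h => hb1 ⟨Or.inl rfl, h⟩
    have hn6 : n ≠ 6 := fun h => hgap ⟨h, rfl⟩
    obtain ⟨l, rfl⟩ : ∃ l, n = 3 + l := ⟨n - 3, by omega⟩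
    refine ⟨Fin.append (fun _ : Fin 3 => ω) (fun _ : Fin l => 1), 1, ?_, ?_, ?_, fun c => ?_,
      diag_two_noPair (by omega) (by omega) (by omega) hω0 one_ne_zero ?_⟩
    · refine fun i => Fin.addCases (fun i => ?_) (fun i => ?_) i <;> simp [hω.pow_eq_one]
    · rw [Fin.prod_univ_add]
      simp [hω.pow_eq_one]
    · refine fun i => Fin.addCases (fun i => ?_) (fun i => ?_) i <;> simp [hωN]
    · by_contra hc
      push Not at hc
      have e0 := hc (Fin.castAdd l 0)
      have e1 := hc (Fin.natAdd 3 ⟨0, by omega⟩)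
      rw [Fin.append_left] at e0
      rw [Fin.append_right] at e1
      exact hω1 (e0.trans e1.symm)
    · intro h
      rw [one_mul, ← pow_two] at h
      exact hω.pow_ne_one_of_pos_of_lt (by norm_num : (2 : ℕ) ≠ 0) (by norm_num) h
  have hr5 : 5 ≤ r := by
    by_contra h
    interval_cases r
    · exact hr3' rfl
    · exact absurd hrp (by norm_num)
  set a : F := ω ^ (r - 2) with ha
  have hωa : ω ^ 2 * a = 1 := by rw [ha, ← pow_add, show 2 + (r - 2) = r by omega, hω.pow_eq_one]
  have har : a ^ r = 1 := by rw [ha, ← pow_mul, mul_comm, pow_mul, hω.pow_eq_one, one_pow]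
  have haN : a ^ N = 1 := by rw [ha, ← pow_mul, mul_comm, pow_mul, hωN, one_pow]
  by_cases hn3 : n = 3
  · subst hn3
    refine ⟨Fin.append (fun _ : Fin 2 => ω) (fun _ : Fin 1 => a), 1, ?_, ?_, ?_, fun c => ?_,
      diag_two_noPair (by omega) Nat.one_pos (by omega) hω0 (pow_ne_zero _ hω0) ?_⟩
    · refine fun i => Fin.addCases (m := 2) (n := 1) (fun i => ?_) (fun i => ?_) i
      · rw [Fin.append_left]; exact hω.pow_eq_one
      · rw [Fin.append_right]; exact har
    · rw [Fin.prod_univ_add (a := 2) (b := 1)]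
      simp only [Fin.append_left, Fin.append_right, Finset.prod_const, Finset.card_univ, Fintype.card_fin, pow_one]
      exact hωa
    · refine fun i => Fin.addCases (m := 2) (n := 1) (fun i => ?_) (fun i => ?_) i
      · rw [Fin.append_left]; exact hωN
      · rw [Fin.append_right]; exact haN
    · by_contra hc
      push Not at hc
      have e0 := hc (Fin.castAdd 1 (0 : Fin 2))
      have e1 := hc (Fin.natAdd 2 (0 : Fin 1))
      rw [Fin.append_left] at e0
      rw [Fin.append_right] at e1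
      have : ω ^ 3 = 1 := by rw [pow_succ, ← hωa, e0, e1]
      exact hω.pow_ne_one_of_pos_of_lt (by norm_num : (3 : ℕ) ≠ 0) (by omega) this
    · intro h
      have h6 : ω ^ 6 = 1 := by
        calc ω ^ 6 = (ω ^ 2) ^ 2 * (ω * ω) := by ring
          _ = (ω ^ 2) ^ 2 * (a * a) := by rw [h]
          _ = (ω ^ 2 * a) ^ 2 := by ring
          _ = 1 := by rw [hωa, one_pow]
      have h3 := (hω.pow_eq_one_iff_dvd 6).1 h6
      have hle := Nat.le_of_dvd (by norm_num) h3
      interval_cases r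
      · norm_num at h3
      · exact absurd hrp (by norm_num)
  obtain ⟨l, rfl⟩ : ∃ l, n = 2 + 1 + l := ⟨n - 3, by omega⟩
  refine ⟨Fin.append (Fin.append (fun _ : Fin 2 => ω) (fun _ : Fin 1 => a)) (fun _ : Fin l => 1), 1, ?_, ?_, ?_,
    fun c => ?_, diag_three_noPair hr5 hω (by omega) fun h => hb1 ⟨Or.inr h.2, by omega⟩⟩
  · refine fun i => Fin.addCases (fun i => Fin.addCases (fun i => ?_) (fun i => ?_) i) (fun i => ?_) i <;>
      simp only [Fin.append_left, Fin.append_right, hω.pow_eq_one, har, one_pow]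
  · rw [Fin.prod_univ_add, Fin.prod_univ_add]
    simp only [Fin.append_left, Fin.append_right, Finset.prod_const, Finset.card_univ, Fintype.card_fin, pow_one,
      one_pow, mul_one]
    exact hωa
  · refine fun i => Fin.addCases (fun i => Fin.addCases (fun i => ?_) (fun i => ?_) i) (fun i => ?_) i <;>
      simp only [Fin.append_left, Fin.append_right, hωN, haN, one_pow]
  · by_contra hc
    push Not at hc
    have e0 := hc (Fin.castAdd l (Fin.castAdd 1 (0 : Fin 2)))
    have e1 := hc (Fin.natAdd (2 + 1) ⟨0, by omega⟩)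
    rw [Fin.append_left, Fin.append_left] at e0
    rw [Fin.append_right] at e1
    exact hω1 (e0.trans e1.symm)

end Cfsg.Agent.Lib.OrthDerange
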