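import Mathlib
import Cfsg.Agent.Lib.OrthDerange.Basic
import Cfsg.Agent.Lib.OrthPrime.Sub
import Cfsg.Agent.Lib.LinClasses.SquareRoot
import Cfsg.Agent.Lib.DefectTwist.Count

/-!
Elements of `SL_n(q)`, `q` odd, that are conjugate into the similarity group of a quadratic form.
-/

set_option autoImplicit false

open scoped Matrix
open Cfsg.Agent.Lib Cfsg.Agent.Lib.LinClasses

namespace Cfsg.Agent.Lib.OrthDerange

variable {F : Type*} [Field F]

/-- Orthogonal coordinates. -/
theorem exists_orth_coords {n : ℕ} (h2 : (2 : F) ≠ 0) {Q : (Fin n → F) → F}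
    (hQ : Cfsg.Geo.IsNondegenerateQuadraticForm Q) :
    ∃ (w : Fin n → Fˣ) (e : (Fin n → F) ≃ₗ[F] (Fin n → F)), ∀ u, Q (e u) = ∑ i, (w i : F) * (u i * u i) := by
  let : Invertible (2 : F) := invertibleOfNonzero h2
  have hsep : (QuadraticMap.associated (R := F) (quadOf hQ)).SeparatingLeft := by
    intro x hx
    refine (nondegenerate_quadOf hQ).1 x fun y => ?_
    rw [← QuadraticMap.two_nsmul_associated F, LinearMap.smul_apply, LinearMap.smul_apply, hx y, smul_zero]
  obtain ⟨w, ⟨ψ⟩⟩ := QuadraticForm.equivalent_weightedSumSquares_units_of_nondegenerate' (quadOf hQ) hsep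
  have hfr : Module.finrank F (Fin n → F) = n := Module.finrank_fin_fun F
  refine ⟨fun i => w (finCongr hfr.symm i),
    (LinearEquiv.funCongrLeft F F (finCongr hfr.symm).symm).trans ψ.toLinearEquiv.symm, fun u => ?_⟩
  rw [LinearEquiv.trans_apply]
  show quadOf hQ _ = _
  rw [← ψ.map_app, show ψ (ψ.toLinearEquiv.symm _) = _ from ψ.toLinearEquiv.apply_symm_apply _,
    QuadraticMap.weightedSumSquares_apply]
  refine Fintype.sum_equiv (finCongr hfr) _ _ fun i => ?_
  simp [Units.smul_def, LinearEquiv.funCongrLeft_apply, LinearMap.funLeft_apply]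

/-- Involutions modulo scalars. -/
theorem invol_mem [Finite F] {n : ℕ} (hn : 1 ≤ n) (h2 : (2 : F) ≠ 0) {Q : (Fin n → F) → F}
    (hQ : Cfsg.Geo.IsNondegenerateQuadraticForm Q) {x : GL (Fin n) F} {z : F}
    (hz : (x : Matrix (Fin n) (Fin n) F) * (x : Matrix (Fin n) (Fin n) F) = z • 1) :
    ∃ g ∈ Cfsg.Geo.specialLinear (Fin n) F, g⁻¹ * x * g ∈ Cfsg.Geo.quadSimilarityGroup Q := by
  classical
  have : Fintype F := Fintype.ofFinite F
  obtain ⟨w, e, he⟩ := exists_orth_coords h2 hQ
  have hz0 : z ≠ 0 := by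
    intro h
    have hne : Nonempty (Fin n) := ⟨⟨0, hn⟩⟩
    have := congrArg Matrix.det hz
    rw [h, zero_smul, Matrix.det_mul, Matrix.det_zero] at this
    exact Matrix.GeneralLinearGroup.det_ne_zero x (mul_self_eq_zero.1 this)
  by_cases hsq : IsSquare z
  · obtain ⟨s, rfl⟩ := hsq
    have hs0 : s ≠ 0 := fun h => hz0 (by rw [h, mul_zero])
    obtain ⟨a, b, hab, hxM⟩ := exists_isModel_split (s := s)
      (fun h => mul_ne_zero h2 hs0 (by linear_combination h)) hz
    rw [Fintype.card_fin] at hab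
    let eqv : Fin a ⊕ Fin b ≃ Fin n := finSumFinEquiv.trans (finCongr hab)
    set d : Fin a ⊕ Fin b → F := Sum.elim (fun _ => s) (fun _ => -s) with hd
    let Φ : (Fin a ⊕ Fin b → F) ≃ₗ[F] (Fin n → F) := (LinearEquiv.funCongrLeft F F eqv.symm).trans e
    obtain ⟨y, hy, -⟩ := exists_isModel Φ (Matrix.diagonal d)
    have : Nonempty (Fin a ⊕ Fin b) := ⟨eqv.symm ⟨0, hn⟩⟩
    refine exists_conj_of_model hxM (hasDetCentralizer_diagonal d) ⟨Φ, hy⟩ hz0 fun v => ?_
    obtain ⟨u, rfl⟩ := Φ.surjective v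
    rw [hy]
    simp only [Φ, LinearEquiv.trans_apply, he, LinearEquiv.funCongrLeft_apply, LinearMap.funLeft_apply,
      Matrix.mulVec_diagonal, Finset.mul_sum]
    refine Finset.sum_congr rfl fun i _ => ?_
    rcases h : eqv.symm i with j | j <;> simp [hd] <;> ring
  · obtain ⟨b, hb, hxM⟩ := exists_isModel_rot hsq hz
    rw [Fintype.card_fin] at hb
    let eqv : Fin 2 × Fin b ≃ Fin n := finProdFinEquiv.trans (finCongr (by omega))
    have hsol : ∀ j : Fin b, ∃ α β : F, α ^ 2 + ((w (eqv (0, j)) : F) / w (eqv (1, j))) * β ^ 2 = z := by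
      intro j
      set k := (w (eqv (0, j)) : F) / w (eqv (1, j))
      have hk : k ≠ 0 := div_ne_zero (Units.ne_zero _) (Units.ne_zero _)
      obtain ⟨α, β, h⟩ := FiniteField.exists_root_sum_quadratic
        (f := (Polynomial.X ^ 2 : Polynomial F)) (g := Polynomial.C k * Polynomial.X ^ 2 - Polynomial.C z)
        (Polynomial.degree_X_pow 2) (by compute_degree!) (FiniteField.odd_card_of_char_ne_two (fun h => by
          have hch := ringChar.charP F
          rw [h] at hch
          exact h2 (CharTwo.two_eq_zero)))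
      refine ⟨α, β, ?_⟩
      simp at h
      linear_combination h
    choose α β hαβ using hsol
    let N : Fin b → Matrix (Fin 2) (Fin 2) F := fun j =>
      !![α j, β j; (w (eqv (0, j)) : F) * β j / w (eqv (1, j)), -α j]
    let Φ : (Fin 2 × Fin b → F) ≃ₗ[F] (Fin n → F) := (LinearEquiv.funCongrLeft F F eqv.symm).trans e
    obtain ⟨y, hy, -⟩ := exists_isModel Φ (Matrix.blockDiagonal N)
    have hN : Matrix.blockDiagonal N * Matrix.blockDiagonal N = z • 1 := by
      rw [← Matrix.blockDiagonal_mul, ← Matrix.blockDiagonal_one, ← Matrix.blockDiagonal_smul]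
      congr 1
      funext j
      have hw1 : (w (eqv (1, j)) : F) ≠ 0 := Units.ne_zero _
      have := hαβ j
      ext i k
      fin_cases i <;> fin_cases k <;> simp [N, Matrix.mul_apply, Fin.sum_univ_two] <;> field_simp at this ⊢ <;>
        first | linear_combination this | ring
    have hyy : y * y = z • 1 := by
      apply Matrix.toLin'.injective
      refine LinearMap.ext fun v => ?_
      obtain ⟨u, rfl⟩ := Φ.surjective v
      rw [Matrix.toLin'_apply, Matrix.toLin'_apply, ← Matrix.mulVec_mulVec, hy, hy, Matrix.mulVec_mulVec, hN,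
        Matrix.smul_mulVec, Matrix.one_mulVec, Matrix.smul_mulVec, Matrix.one_mulVec, map_smul]
    obtain ⟨b', hb', hyM⟩ := exists_isModel_rot hsq hyy
    rw [Fintype.card_fin] at hb'
    obtain rfl : b = b' := by omega
    refine exists_conj_of_model hxM (hasDetCentralizer_rotBlock hsq (by omega)) hyM hz0 fun v => ?_
    obtain ⟨u, rfl⟩ := Φ.surjective v
    rw [hy]
    simp only [Φ, LinearEquiv.trans_apply, he, LinearEquiv.funCongrLeft_apply, LinearMap.funLeft_apply]
    rw [← Equiv.sum_comp eqv, ← Equiv.sum_comp eqv, Fintype.sum_prod_type, Fintype.sum_prod_type,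
      Fin.sum_univ_two, Fin.sum_univ_two, ← Finset.sum_add_distrib, ← Finset.sum_add_distrib, Finset.mul_sum]
    refine Finset.sum_congr rfl fun j _ => ?_
    have hw1 : (w (eqv (1, j)) : F) ≠ 0 := Units.ne_zero _
    have := hαβ j
    simp only [Equiv.symm_apply_apply, Matrix.mulVec, dotProduct, Matrix.blockDiagonal_apply,
      Fintype.sum_prod_type, Fin.sum_univ_two, ite_mul, zero_mul, Finset.sum_ite_eq, Finset.mem_univ, if_true, N]
    simp only [Fin.isValue, Matrix.of_apply, Matrix.cons_val', Matrix.cons_val_zero, Matrix.cons_val_one,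
      Matrix.cons_val_fin_one]
    field_simp at this ⊢
    linear_combination
      ((w (eqv (0, j)) : F) * u (0, j) ^ 2 + (w (eqv (1, j)) : F) * u (1, j) ^ 2) * this

/-- A diagonalisable element whose eigenvalues pair up about a middle one, in odd dimension. -/
theorem diag_mem [Fintype F] {k : ℕ} (h2 : (2 : F) ≠ 0) {Q : (Fin (2 * k + 1) → F) → F}
    (hQ : Cfsg.Geo.IsNondegenerateQuadraticForm Q) {x : GL (Fin (2 * k + 1)) F} {d : Fin (2 * k + 1) → F}
    (hx : IsModel (x : Matrix (Fin (2 * k + 1)) (Fin (2 * k + 1)) F) (Matrix.diagonal d))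
    (hd : ∀ i, d i ≠ 0) (π : Unit ⊕ (Fin k ⊕ Fin k) ≃ Fin (2 * k + 1))
    (hπ : ∀ i, d (π (.inr (.inl i))) * d (π (.inr (.inr i))) = d (π (.inl ())) * d (π (.inl ()))) :
    ∃ g ∈ Cfsg.Geo.specialLinear (Fin (2 * k + 1)) F, g⁻¹ * x * g ∈ Cfsg.Geo.quadSimilarityGroup Q := by
  classical
  have hfr : Module.finrank F (Fin (2 * k + 1) → F) = 2 * k + 1 := by simp
  obtain ⟨γ, f, hγ, hf, hQf⟩ := OrthPrime.exists_odd_coords (nondegenerate_quadOf hQ) h2 hfr
  let L : (Unit ⊕ (Fin k ⊕ Fin k) → F) →ₗ[F] (Fin (2 * k + 1) → F) :=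
    { toFun := fun v => f (fun i => v (.inr (.inl i)), fun i => v (.inr (.inr i)), v (.inl ()))
      map_add' := fun u v => by rw [← map_add]; rfl
      map_smul' := fun c v => by rw [RingHom.id_apply, ← map_smul]; rfl }
  have hL : Function.Injective L := fun u v h => by
    have h' := hf h
    simp only [Prod.mk.injEq] at h'
    obtain ⟨ha, hb, hc⟩ := h'
    funext x
    rcases x with ⟨⟩ | i | i
    · exact hc
    · exact congrFun ha i
    · exact congrFun hb i
  let Φ := LinearMap.linearEquivOfInjective L hL (by simp; ring)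
  have hdπ : IsModel (x : Matrix (Fin (2 * k + 1)) (Fin (2 * k + 1)) F) (Matrix.diagonal (d ∘ π)) :=
    hx.diagonal_congr π (fun _ => rfl)
  obtain ⟨y, hy, -⟩ := exists_isModel Φ (Matrix.diagonal (d ∘ π))
  refine exists_conj_of_model hdπ (hasDetCentralizer_diagonal _) ⟨Φ, hy⟩
    (mul_ne_zero (hd (π (.inl ()))) (hd (π (.inl ())))) fun v => ?_
  obtain ⟨u, rfl⟩ := Φ.surjective v
  rw [hy]
  show quadOf hQ _ = _ * quadOf hQ _
  simp only [Φ, LinearMap.linearEquivOfInjective_apply, L, LinearMap.coe_mk, AddHom.coe_mk, hQf,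
    Matrix.mulVec_diagonal, Function.comp_apply, mul_add, Finset.mul_sum]
  congr 1
  · refine Finset.sum_congr rfl fun i _ => ?_
    linear_combination (u (.inr (.inl i)) * u (.inr (.inr i))) * hπ i
  · ring

end Cfsg.Agent.Lib.OrthDerange
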